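import Cfsg.Agent.Kazarin19.Core
import Cfsg.Agent.FGS80.Basic
import Cfsg.Agent.Lib.Fitting
import Cfsg.Agent.Lib.Fitting.Minimal
import Mathlib.GroupTheory.Solvable

/-!
# Kazarin's theorem: an element with a class of prime power size has solvable normal closure
-/

set_option autoImplicit false

open Subgroup
open scoped Pointwise

namespace Cfsg.Agent.Kazarin19

universe u

theorem isSolvable_of_le {G : Type u} [Group G] {A B : Subgroup G} (h : A ≤ B)
    (hB : Group.IsSolvable B) : Group.IsSolvable A :=
  Group.isSolvable_of_isSolvable_injective (f := inclusion h) (inclusion_injective h)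

/-- An extension inside a group: image and intersection with the kernel solvable. -/
theorem isSolvable_of_map {G H : Type u} [Group G] [Group H] (f : G →* H) (N : Subgroup G)
    (h1 : Group.IsSolvable (N ⊓ f.ker : Subgroup G)) (h2 : Group.IsSolvable (N.map f)) :
    Group.IsSolvable N := by
  refine Group.isSolvable_of_ker_le_range (inclusion (inf_le_left : N ⊓ f.ker ≤ N))
    (f.subgroupMap N) ?_
  intro y hy
  have hy' : f (y : G) = 1 := congrArg Subtype.val (MonoidHom.mem_ker.mp hy)
  exact ⟨⟨y, y.2, hy'⟩, rfl⟩

theorem isSolvable_of_isNilpotent {H : Type u} [Group H] (h : Group.IsNilpotent H) :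
    Group.IsSolvable H :=
  inferInstance

theorem index_centralizer_map_dvd {G H : Type u} [Group G] [Group H] (f : G →* H)
    (hf : Function.Surjective f) (x : G) :
    (centralizer ({f x} : Set H)).index ∣ (centralizer ({x} : Set G)).index := by
  refine dvd_trans (index_dvd_of_le ?_) (index_map_dvd _ hf)
  rintro _ ⟨g, hg, rfl⟩
  rw [mem_centralizer_singleton_iff, ← map_mul, ← map_mul, mem_centralizer_singleton_iff.mp hg]

theorem kazarin_aux : ∀ (n : ℕ) (G : Type u) [Group G] [Finite G], Nat.card G ≤ n →
    ∀ (x : G) (p a : ℕ), p.Prime → (centralizer ({x} : Set G)).index = p ^ a →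
    Group.IsSolvable (normalClosure ({x} : Set G)) := by
  intro n
  induction n with
  | zero => intro G _ _ h; exact absurd Nat.card_pos (by omega : ¬ 0 < Nat.card G)
  | succ n ih =>
    intro G _ _ hn x p a hp hx
    set N := normalClosure ({x} : Set G) with hN
    by_cases hN1 : N = ⊥
    · exact isSolvable_of_le hN1.le inferInstance
    -- images in proper quotients
    have hquot : ∀ (M : Subgroup G) [M.Normal], M ≠ ⊥ →
        Group.IsSolvable (N.map (QuotientGroup.mk' M)) := by
      intro M _ hM
      obtain ⟨i, -, hi⟩ := (Nat.dvd_prime_pow hp).mp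
        (hx ▸ index_centralizer_map_dvd _ (QuotientGroup.mk'_surjective M) x)
      have hlt : Nat.card (G ⧸ M) ≤ n := by
        have h1 := card_eq_card_quotient_mul_card_subgroup M
        have h2 : 1 < Nat.card M := (Subgroup.one_lt_card_iff_ne_bot M).mpr hM
        have h3 : 0 < Nat.card (G ⧸ M) := Nat.card_pos
        have h4 := Nat.mul_le_mul_left (Nat.card (G ⧸ M)) h2
        omega
      rw [hN, map_normalClosure _ _ (QuotientGroup.mk'_surjective M), Set.image_singleton]
      exact ih _ hlt _ p i hp hi
    by_contra hns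
    obtain ⟨M, hM, hMN⟩ :=
      Cfsg.Agent.Fitting.exists_isMinNormal_le (normalClosure_normal : N.Normal) hN1
    have hMn := hM.1
    have hMns : ¬ Group.IsSolvable M := fun hs => hns <| by
      refine isSolvable_of_map (QuotientGroup.mk' M) N ?_ (hquot M hM.2.1)
      exact isSolvable_of_le (inf_le_right.trans (QuotientGroup.ker_mk' M).le) hs
    -- `M` lies in every nontrivial normal subgroup
    have huniq : ∀ Y : Subgroup G, Y.Normal → Y ≠ ⊥ → M ≤ Y := by
      intro Y hY hYne
      refine (hM.le_or_inf_eq_bot Y).resolve_right fun hd => hMns ?_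
      refine isSolvable_of_map (QuotientGroup.mk' Y) M ?_ ?_
      · rw [QuotientGroup.ker_mk', hd]
        infer_instance
      · exact isSolvable_of_le (map_mono hMN) (hquot Y hYne)
    have hCM : centralizer (M : Set G) = ⊥ := by
      by_contra hc
      refine hMns ?_
      have : IsMulCommutative M :=
        ⟨⟨fun u v => Subtype.ext
          (mem_centralizer_iff.mp (huniq _ inferInstance hc v.2) u u.2)⟩⟩
      exact Group.isSolvable_of_comm fun u v => mul_comm' u v
    have hxc : x ∉ center G := fun hc => by
      have : x ∈ centralizer (M : Set G) :=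
        mem_centralizer_iff.mpr fun g _ => (mem_center_iff.mp hc g)
      rw [hCM, mem_bot] at this
      exact hN1 (le_bot_iff.mp (normalClosure_le_normal (by simp [this])))
    -- `M` has no nontrivial solvable normal subgroup
    have hMfit : Cfsg.fittingSubgroup M = ⊥ := by
      by_contra hf
      refine hMns ?_
      have hn' : ((Cfsg.fittingSubgroup M).map M.subtype).Normal := inferInstance
      rcases hM.2.2 _ hn' (map_subtype_le _) with h | h
      · exact absurd ((map_eq_bot_iff_of_injective _ M.subtype_injective).mp h) hf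
      · have hnil : Group.IsNilpotent (Cfsg.fittingSubgroup M) :=
          Cfsg.Agent.Fitting.fitting_isNilpotent
        have htop : Cfsg.fittingSubgroup M = ⊤ := map_injective M.subtype_injective <| by
          rw [h, ← MonoidHom.range_eq_map, range_subtype]
        rw [htop] at hnil
        have : Group.IsNilpotent M := Group.isNilpotent_top.mp hnil
        exact isSolvable_of_isNilpotent this
    have hrad : ∀ K : Subgroup M, K.Normal → Group.IsSolvable K → K = ⊥ := by
      intro K hK hKs
      by_contra hne
      obtain ⟨R, hR, hRK⟩ := Cfsg.Agent.Fitting.exists_isMinNormal_le hK hne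
      have : Group.IsSolvable R := isSolvable_of_le hRK hKs
      have hRab : IsMulCommutative R := hR.isMulCommutative
      have hRnil : Group.IsNilpotent R := Subgroup.nilpotent_iff_lowerCentralSeries.mpr
        ⟨1, Subgroup.lowerCentralSeries_one_eq_bot_iff.mpr hRab⟩
      exact hR.2.1 (le_bot_iff.mp (hMfit ▸ Cfsg.Agent.Fitting.le_fitting hR.1 hRnil))
    set H := M ⊔ zpowers x with hH
    by_cases hHtop : H = ⊤
    · have hex : ∃ s : ℕ, s.Prime ∧ s ∣ Nat.card M ∧ s ≠ p := by
        by_contra hc
        push Not at hc
        refine hMns (isSolvable_of_isNilpotent ?_)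
        have := Fact.mk hp
        exact (IsPGroup.of_card (p := p) (n := (Nat.card M).primeFactorsList.length)
          (Nat.eq_prime_pow_of_unique_prime_dvd Nat.card_pos.ne'
            fun hd hdvd => hc _ hd hdvd)).isNilpotent
      obtain ⟨s, hs, hsM, hsp⟩ := hex
      exact not_prime_power_class x hp hx M hHtop huniq hxc hs hsp hsM
    -- `M⟨x⟩` is proper: induction
    have hMH : M ≤ H := le_sup_left
    have hxH : x ∈ H := mem_sup_right (mem_zpowers x)
    set C := centralizer ({x} : Set G) with hC
    have hCH : centralizer ({(⟨x, hxH⟩ : H)} : Set H) = C.subgroupOf H := by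
      ext g
      simp [hC, mem_subgroupOf, mem_centralizer_singleton_iff, Subtype.ext_iff]
    have hidx : (centralizer ({(⟨x, hxH⟩ : H)} : Set H)).index ∣ p ^ a := by
      rw [hCH, ← relIndex, ← hx, ← inf_relIndex_right]
      have hsup : C ⊓ H ⊔ M = H := le_antisymm (sup_le inf_le_right hMH) <|
        sup_le le_sup_right (zpowers_le.mpr (mem_sup_left
          ⟨mem_centralizer_singleton_iff.mpr rfl, hxH⟩))
      calc (C ⊓ H).relIndex H = (C ⊓ H).relIndex (C ⊓ H ⊔ M) := by rw [hsup]
        _ = (C ⊓ H).relIndex M := FGS80.relIndex_sup_of_normal _ _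
        _ = C.relIndex M := by
          rw [← inf_relIndex_right, inf_assoc, inf_eq_right.mpr hMH, inf_relIndex_right]
        _ ∣ C.index := FGS80.relIndex_dvd_index _ _
    obtain ⟨i, -, hi⟩ := (Nat.dvd_prime_pow hp).mp hidx
    have hlt : Nat.card H < Nat.card G := lt_of_le_of_ne H.card_le_card_group
      fun h => hHtop (eq_top_of_card_eq H h)
    have hL := ih H (by omega) ⟨x, hxH⟩ p i hp hi
    set L := normalClosure ({(⟨x, hxH⟩ : H)} : Set H) with hLdef
    -- `L ⊓ M` is a solvable normal subgroup of `M`
    let K : Subgroup M := L.comap (inclusion hMH)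
    have hKn : K.Normal := normalClosure_normal.comap _
    have hKs : Group.IsSolvable K := by
      refine Group.isSolvable_of_isSolvable_injective
        (f := ((inclusion hMH).comp K.subtype).codRestrict L fun k => k.2) ?_
      intro u v h
      exact Subtype.ext (inclusion_injective hMH (congrArg Subtype.val h))
    have hK1 := hrad K hKn hKs
    refine hxc (mem_center_iff.mpr fun g => ?_)
    have hxM : x ∈ centralizer (M : Set G) := mem_centralizer_iff.mpr fun m hm => by
      let w : M := ⟨m * (x * m⁻¹ * x⁻¹), mul_mem hm (hMn.conj_mem _ (inv_mem hm) x)⟩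
      have h2 : (⟨m, hMH hm⟩ : H) * ⟨x, hxH⟩ * ⟨m, hMH hm⟩⁻¹ * ⟨x, hxH⟩⁻¹ ∈ L :=
        mul_mem ((normalClosure_normal (s := ({(⟨x, hxH⟩ : H)} : Set H))).conj_mem _
          (subset_normalClosure rfl) _) (inv_mem (subset_normalClosure rfl))
      have h3 : inclusion hMH w =
          (⟨m, hMH hm⟩ : H) * ⟨x, hxH⟩ * ⟨m, hMH hm⟩⁻¹ * ⟨x, hxH⟩⁻¹ :=
        Subtype.ext (by simp [w, mul_assoc])
      have h1 : w ∈ K := mem_comap.mpr (h3 ▸ h2)
      rw [hK1, mem_bot] at h1
      have h4 : m * (x * m⁻¹ * x⁻¹) = 1 := congrArg Subtype.val h1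
      rw [← mul_assoc, ← mul_assoc, mul_inv_eq_one, mul_inv_eq_iff_eq_mul] at h4
      exact h4
    rw [hCM, mem_bot] at hxM
    simp [hxM]

/-- Kazarin: the normal closure of an element with class of prime power size is solvable. -/
theorem isSolvable_normalClosure {G : Type u} [Group G] [Finite G] (x : G) {p a : ℕ}
    (hp : p.Prime) (hx : (centralizer ({x} : Set G)).index = p ^ a) :
    Group.IsSolvable (normalClosure ({x} : Set G)) :=
  kazarin_aux (Nat.card G) G le_rfl x p a hp hx

end Cfsg.Agent.Kazarin19
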