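import Cfsg.Agent.Lib.BlocksCore.WeakOrth
import Cfsg.Agent.Lib.BlocksDefect.PrincipalSection
import Cfsg.Agent.Lib.CharCore.Linear
import Cfsg.Agent.Lib.CharCore.Burnside
import Cfsg.Agent.Blocks88.Modular
import Mathlib.GroupTheory.PGroup
import Mathlib.GroupTheory.Perm.Cycle.Type

/-!
# Kazarin's theorem: the core argument

If `G = S⟨x⟩` with `S` contained in every nontrivial normal subgroup, `x` noncentral, and a prime
`s ≠ p` divides `|S|`, then the class of `x` does not have `p`-power size: in the principal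
`s`-block every character is nonzero at `x`, so has degree divisible by `p` or is linear,
contradicting weak orthogonality at `1` and an element of order `s` of `S`.
-/

set_option autoImplicit false

open scoped ComplexConjugate
open Cfsg Cfsg.Agent.BlocksCore Cfsg.Agent.BlocksDefect

namespace Cfsg.Agent.Kazarin19

variable {G : Type*} [Group G] [Finite G]

/-- An irreducible representation all of whose values are scalars has degree one. -/
theorem degree_one_of_scalar {n : ℕ} (ρ : Representation ℂ G (Fin n → ℂ)) [hρ : ρ.IsIrreducible]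
    (h : ∀ g, ∃ c : ℂ, ρ g = c • (LinearMap.id : (Fin n → ℂ) →ₗ[ℂ] (Fin n → ℂ))) : n = 1 := by
  classical
  have := Fintype.ofFinite G
  have hnorm : ∀ g, ‖ρ.character g‖ = (n : ℝ) := fun g => by
    have := (CharCore.norm_character_eq_iff ρ g).mpr (h g)
    rwa [Module.finrank_fin_fun] at this
  have h1 := CharCore.classInner_irr_self (⟨ρ.character, n, ρ, hρ, rfl⟩ : Cfsg.IrrCharacter G)
  simp only [Cfsg.classInner] at h1
  have hsq : ∀ g, ρ.character g * conj (ρ.character g) = ((n : ℂ)) ^ 2 := fun g => by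
    rw [Complex.mul_conj', hnorm]
    norm_cast
  simp only [hsq, Finset.sum_const, Finset.card_univ, nsmul_eq_mul, ← Nat.card_eq_fintype_card]
    at h1
  rw [inv_mul_cancel_left₀ (Nat.cast_ne_zero.mpr Nat.card_pos.ne')] at h1
  have h2 : n ^ 2 = 1 := by exact_mod_cast h1
  simpa using h2

omit [Finite G] in
theorem isIntegral_hom [Finite G] (l : G →* ℂˣ) (g : G) : IsIntegral ℤ ((l g : ℂˣ) : ℂ) := by
  have := Fintype.ofFinite G
  exact isIntegral_irr (⟨_, CharCore.isIrrCharacter_hom l⟩ : IrrCharacter G) g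

/-- The homomorphisms to `ℂˣ` trivial on `S` and lying in the principal block. -/
def blockHoms (M : Ideal AlgInt) [M.IsPrime] (S : Subgroup G) : Subgroup (G →* ℂˣ) where
  carrier := {l | S ≤ l.ker ∧
    ∀ g : G, MemLocalIdeal M (((Subgroup.centralizer ({g} : Set G)).index : ℂ) -
      ((Subgroup.centralizer ({g} : Set G)).index : ℂ) * (l g : ℂ))}
  one_mem' := ⟨fun g _ => by simp, fun g => by
    simpa using (memLocalIdeal_zero : MemLocalIdeal M (0 : ℂ))⟩
  mul_mem' := fun {a b} ha hb => ⟨fun g hg => by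
      have h1 : a g = 1 := MonoidHom.mem_ker.mp (ha.1 hg)
      have h2 : b g = 1 := MonoidHom.mem_ker.mp (hb.1 hg)
      simp [h1, h2], fun g => by
    have hb' : MemLocalRing M (b g : ℂ) := memLocalRing_of_isIntegral (isIntegral_hom b g)
    have h3 := memLocalIdeal_add (memLocalIdeal_mul_right (ha.2 g) hb') (hb.2 g)
    convert h3 using 1
    simp only [MonoidHom.mul_apply, Units.val_mul]
    ring⟩
  inv_mem' := fun {a} ha => ⟨fun g hg => by
      have h1 : a g = 1 := MonoidHom.mem_ker.mp (ha.1 hg)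
      simp [h1], fun g => by
    have ha' : MemLocalRing M (a⁻¹ g : ℂ) := memLocalRing_of_isIntegral (isIntegral_hom a⁻¹ g)
    have h3 := memLocalIdeal_neg (memLocalIdeal_mul_right (ha.2 g) ha')
    convert h3 using 1
    simp only [MonoidHom.inv_apply, Units.val_inv_eq_inv_val]
    have : (a g : ℂ) ≠ 0 := Units.ne_zero _
    field_simp
    ring⟩

/-- The core of Kazarin's theorem. -/
theorem not_prime_power_class (x : G) {p a : ℕ} (hp : p.Prime)
    (hx : (Subgroup.centralizer ({x} : Set G)).index = p ^ a)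
    (S : Subgroup G) (hgen : S ⊔ Subgroup.zpowers x = ⊤)
    (hmin : ∀ N : Subgroup G, N.Normal → N ≠ ⊥ → S ≤ N) (hxc : x ∉ Subgroup.center G)
    {s : ℕ} (hs : s.Prime) (hsp : s ≠ p) (hsS : s ∣ Nat.card S) : False := by
  classical
  have := Fintype.ofFinite G
  have := Fact.mk hs
  obtain ⟨M, hM⟩ := Blocks88.exists_isPModular hs
  have := isPrime hM
  haveI := finite_irr (G := G)
  haveI := Fintype.ofFinite (IrrCharacter G)
  obtain ⟨y, hy⟩ := exists_prime_orderOf_dvd_card' (G := S) s hsS
  have hy' : orderOf (y : G) = s := by rw [Subgroup.orderOf_coe, hy]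
  have hp0 : ¬ MemLocalIdeal M (((p ^ a : ℕ) : ℂ)) := by
    rw [memLocalIdeal_natCast_iff hM]
    exact fun h => hsp ((Nat.prime_dvd_prime_iff_eq hs hp).mp (hs.dvd_of_dvd_pow h))
  set B := principalBlock M G with hBdef
  have hmem : ∀ χ : IrrCharacter G, χ ∈ B ↔ ∀ g : G, MemLocalIdeal M
      (((Subgroup.centralizer ({g} : Set G)).index : ℂ) - centralChar (χ : G → ℂ) g) := by
    intro χ
    simp only [hBdef, principalBlock, blockOf, SameBlock, Set.mem_setOf_eq, centralChar, mul_one,
      div_one]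
  -- members of degree prime to `p` are linear and trivial on `S`
  have hlin : ∀ χ : IrrCharacter G, χ ∈ B → ¬ p ∣ charDegree (χ : G → ℂ) →
      ∃ l ∈ blockHoms M S, (χ : G → ℂ) = fun g => (l g : ℂ) := by
    intro χ hχ hdeg
    obtain ⟨f, n, ρ, hρ, rfl⟩ := χ
    have hχx : ρ.character x ≠ 0 := by
      intro h0
      have h1 := (hmem _).mp hχ x
      simp only [centralChar, h0, mul_zero, zero_div, sub_zero, hx] at h1
      exact hp0 h1
    have hn : ¬ p ∣ n := by simpa [charDegree] using hdeg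
    have hcop : Nat.Coprime (Module.finrank ℂ (Fin n → ℂ))
        (Subgroup.centralizer ({x} : Set G)).index := by
      rw [hx, Module.finrank_fin_fun]
      exact Nat.Coprime.pow_right _ ((Nat.Prime.coprime_iff_not_dvd hp).mpr hn).symm
    rcases CharCore.eq_zero_or_norm_eq_of_coprime ρ x hcop with h | h
    · exact absurd h hχx
    obtain ⟨c, hc⟩ := (CharCore.norm_character_eq_iff ρ x).mp h
    have hker : S ≤ MonoidHom.ker ρ := by
      refine hmin _ inferInstance fun hbot => hxc (Subgroup.mem_center_iff.mpr fun g => ?_)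
      have hinj : Function.Injective ρ := (MonoidHom.ker_eq_bot_iff ρ).mp hbot
      refine hinj ?_
      rw [map_mul, map_mul, hc]
      ext v
      simp
    have hscal : ∀ g, ∃ c : ℂ, ρ g = c • (LinearMap.id : (Fin n → ℂ) →ₗ[ℂ] (Fin n → ℂ)) := by
      intro g
      have hg : g ∈ S ⊔ Subgroup.zpowers x := hgen ▸ Subgroup.mem_top g
      rw [Subgroup.sup_eq_closure] at hg
      induction hg using Subgroup.closure_induction with
      | mem u hu =>
        rcases hu with hu | hu
        · exact ⟨1, by rw [MonoidHom.mem_ker.mp (hker hu), one_smul]; rfl⟩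
        · obtain ⟨k, rfl⟩ := mem_powers_iff_mem_zpowers.mpr hu
          exact ⟨c ^ k, by rw [map_pow, hc, smul_pow, ← Module.End.one_eq_id, one_pow]⟩
      | one => exact ⟨1, by rw [map_one, one_smul]; rfl⟩
      | mul u v _ _ h1 h2 =>
        obtain ⟨c1, h1⟩ := h1
        obtain ⟨c2, h2⟩ := h2
        exact ⟨c1 * c2, by rw [map_mul, h1, h2, ← Module.End.one_eq_id, smul_mul_smul_comm, one_mul]⟩
      | inv u _ h1 =>
        obtain ⟨c1, h1⟩ := h1
        refine ⟨c1 ^ (orderOf u - 1), ?_⟩
        have hu : u⁻¹ = u ^ (orderOf u - 1) := by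
          rw [inv_eq_iff_mul_eq_one, ← pow_succ', Nat.sub_add_cancel (orderOf_pos u),
            pow_orderOf_eq_one]
        rw [hu, map_pow, h1, smul_pow, ← Module.End.one_eq_id, one_pow]
    have hn1 : n = 1 := degree_one_of_scalar ρ hscal
    obtain ⟨l, hl⟩ := CharCore.IsCharacter.exists_hom_of_degree_one
      (CharCore.isCharacter_character ρ) (by simp [hn1])
    refine ⟨l, ⟨fun u hu => ?_, fun g => ?_⟩, funext fun g => ?_⟩
    · rw [MonoidHom.mem_ker]
      apply Units.ext
      have h1 : ρ.character u = ρ.character 1 := by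
        simp [Representation.character, MonoidHom.mem_ker.mp (hker hu)]
      simpa [hl, hn1] using h1
    · have h1 := (hmem _).mp hχ g
      simpa [centralChar, hl, hn1] using h1
    · simp [hl]
  have hdeg1 : ∀ l : G →* ℂˣ, charDegree (fun g => (l g : ℂ)) = 1 := fun l => by
    simp [charDegree]
  -- `blockHoms` is an `s`-group
  obtain ⟨e, m, hm, hxo⟩ := Nat.exists_eq_pow_mul_and_not_dvd (orderOf_pos x).ne' s hs.ne_one
  have hpow : IsPGroup s (blockHoms M S) := by
    rintro ⟨l, hlS, hlB⟩
    refine ⟨e, Subtype.ext (MonoidHom.ext fun g => ?_)⟩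
    show (l ^ s ^ e) g = 1
    have hlx : (l x) ^ s ^ e = 1 := by
      have h1 := hlB x
      rw [hx] at h1
      have h2 : MemLocalIdeal M (1 - (l x : ℂ)) := by
        rcases memLocalIdeal_mem_or_mem (memLocalRing_natCast (p ^ a))
          (memLocalRing_of_isIntegral (isIntegral_one.sub (isIntegral_hom l x)))
          (by rwa [mul_sub, mul_one]) with h | h
        · exact absurd h hp0
        · exact h
      set z : AlgInt := ⟨((l x : ℂˣ) : ℂ), isIntegral_hom l x⟩ with hz
      have hwm : (z ^ s ^ e) ^ m = 1 := Subtype.ext (by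
        show (((l x : ℂˣ) : ℂ) ^ s ^ e) ^ m = 1
        rw [← pow_mul, ← hxo, ← Units.val_pow_eq_pow_val, ← map_pow, pow_orderOf_eq_one, map_one,
          Units.val_one])
      have h3 : z - 1 ∈ M := by
        refine (memLocalIdeal_coe_iff _).mp ?_
        simpa [hz] using memLocalIdeal_neg h2
      have h4 : z ^ s ^ e = 1 := by
        refine eq_one_of_sub_one_mem hM hm hwm ?_
        obtain ⟨c, hc⟩ := sub_one_dvd_pow_sub_one z (s ^ e)
        rw [hc]
        exact M.mul_mem_right c h3
      apply Units.ext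
      simpa [hz] using congrArg (Subtype.val (p := fun z => z ∈ AlgInt)) h4
    have hg : g ∈ S ⊔ Subgroup.zpowers x := hgen ▸ Subgroup.mem_top g
    have hle : S ⊔ Subgroup.zpowers x ≤ (l ^ s ^ e).ker := by
      refine sup_le (fun u hu => ?_) (Subgroup.zpowers_le.mpr ?_)
      · rw [MonoidHom.mem_ker, MonoidHom.pow_apply, MonoidHom.mem_ker.mp (hlS hu), one_pow]
      · rw [MonoidHom.mem_ker, MonoidHom.pow_apply, hlx]
    exact MonoidHom.mem_ker.mp (hle hg)
  -- the counting
  set A := Finset.univ.filter fun χ : IrrCharacter G => χ ∈ B ∧ ¬ p ∣ charDegree (χ : G → ℂ)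
    with hA
  let F : blockHoms M S → A := fun l => ⟨⟨_, CharCore.isIrrCharacter_hom l.1⟩, by
    refine Finset.mem_filter.mpr ⟨Finset.mem_univ _, (hmem _).mpr fun g => ?_, ?_⟩
    · simpa [centralChar] using l.2.2 g
    · rw [hdeg1]; exact hp.not_dvd_one⟩
  have hF : Function.Bijective F := by
    refine ⟨fun l1 l2 h => Subtype.ext (MonoidHom.ext fun g => Units.ext ?_), fun χ => ?_⟩
    · exact congrFun (congrArg Subtype.val (congrArg Subtype.val h)) g
    · obtain ⟨-, h1, h2⟩ := Finset.mem_filter.mp χ.2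
      obtain ⟨l, hl, he⟩ := hlin χ.1 h1 h2
      exact ⟨⟨l, hl⟩, Subtype.ext (Subtype.ext he.symm)⟩
  haveI : Finite (blockHoms M S) := Finite.of_injective F hF.1
  obtain ⟨j, hj⟩ := IsPGroup.iff_card.mp hpow
  have hAcard : A.card = s ^ j := by
    rw [← hj, Nat.card_congr (Equiv.ofBijective F hF), Nat.card_eq_fintype_card, Fintype.card_coe]
  have horth := weakOrth hM (isPBlock_principal (M := M) (G := G)) (x := 1) (y := (y : G))
    (by rw [orderOf_one]; exact hs.not_dvd_one) (by rw [hy'])
  rw [finsum_mem_eq_finite_toFinset_sum _ (Set.toFinite _),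
    ← Finset.sum_filter_add_sum_filter_not _
      (fun χ : IrrCharacter G => ¬ p ∣ charDegree (χ : G → ℂ))] at horth
  have hA' : (Set.toFinite (principalBlock M G)).toFinset.filter
      (fun χ : IrrCharacter G => ¬ p ∣ charDegree (χ : G → ℂ)) = A := by
    ext χ; simp [hA, hBdef]
  rw [hA', Finset.sum_congr rfl (g := fun _ => (1 : ℂ)) fun χ hχ => ?_] at horth
  swap
  · obtain ⟨-, h1, h2⟩ := Finset.mem_filter.mp hχ
    obtain ⟨l, hl, he⟩ := hlin χ h1 h2
    have hly : l (y : G) = 1 := MonoidHom.mem_ker.mp (hl.1 y.2)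
    simp [he, hly]
  rw [Finset.sum_const, nsmul_one] at horth
  set T := ((Set.toFinite (principalBlock M G)).toFinset.filter
      fun χ : IrrCharacter G => ¬ ¬ p ∣ charDegree (χ : G → ℂ)) with hT
  have hI : IsIntegral ℤ (∑ χ ∈ T,
      ((charDegree (χ : G → ℂ) / p : ℕ) : ℂ) * conj ((χ : G → ℂ) (y : G))) :=
    IsIntegral.sum _ fun χ _ => IsIntegral.mul
      (map_natCast (algebraMap ℤ ℂ) (charDegree (χ : G → ℂ) / p) ▸ isIntegral_algebraMap)
      (by rw [conj_irr]; exact isIntegral_irr χ _)
  have hTsum : ∑ χ ∈ T, (χ : G → ℂ) 1 * conj ((χ : G → ℂ) (y : G)) =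
      (p : ℂ) * ∑ χ ∈ T, ((charDegree (χ : G → ℂ) / p : ℕ) : ℂ) * conj ((χ : G → ℂ) (y : G)) := by
    rw [Finset.mul_sum]
    refine Finset.sum_congr rfl fun χ hχ => ?_
    have hd : p ∣ charDegree (χ : G → ℂ) := not_not.mp (Finset.mem_filter.mp hχ).2
    rw [← mul_assoc, ← Nat.cast_mul, Nat.mul_div_cancel' hd, irr_one_eq]
  rw [hTsum, hAcard] at horth
  have hdvd : p ∣ s ^ j := CharClifford.dvd_of_mul_isIntegral hI.neg
    (by linear_combination horth)
  exact hsp.symm ((Nat.prime_dvd_prime_iff_eq hp hs).mp (hp.dvd_of_dvd_pow hdvd))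

end Cfsg.Agent.Kazarin19
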